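import Cfsg.Agent.H281.TwGrp

set_option autoImplicit false
set_option linter.unusedSectionVars false

/-! # Existence of intertwiners in the twisted group algebra -/

namespace Cfsg.Agent.H281.Tw

variable {U : Type*} [AddCommGroup U] [Module (ZMod 2) U]

/-- An alternating form over `F₂` is the polar form of a function `f`. -/
theorem exists_cochain [Finite U] (B : LinearMap.BilinForm (ZMod 2) U) (hB : ∀ u, B u u = 0) :
    ∃ f : U → ZMod 2, ∀ u v, f (u + v) = f u + f v + B u v := by
  classical
  have : Module.Finite (ZMod 2) U := Module.Finite.of_finite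
  let b := Module.finBasis (ZMod 2) U
  let C : LinearMap.BilinForm (ZMod 2) U :=
    Matrix.toBilin b (Matrix.of fun i j => if i < j then B (b i) (b j) else 0)
  have hsymm : ∀ u v, B u v = B v u := by
    intro u v
    have h := hB (u + v)
    simp only [map_add, LinearMap.add_apply, hB, zero_add, add_zero] at h
    have : ∀ x y : ZMod 2, x + y = 0 → y = x := by decide
    exact this _ _ h
  have hC : C + C.flip = B := by
    apply LinearMap.BilinForm.ext_basis b
    intro i j
    have h1 : ∀ i j, C (b i) (b j) = if i < j then B (b i) (b j) else 0 := by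
      intro i j
      have : LinearMap.BilinForm.toMatrix b C = Matrix.of fun i j => if i < j then B (b i) (b j) else 0 := by
        simp [C]
      have h2 := congrFun (congrFun this i) j
      rw [LinearMap.BilinForm.toMatrix_apply] at h2
      rw [h2]; rfl
    rw [LinearMap.add_apply, LinearMap.add_apply, LinearMap.BilinForm.flip_apply, h1, h1]
    rcases lt_trichotomy i j with h | h | h
    · rw [if_pos h, if_neg (not_lt.2 h.le), add_zero]
    · subst h; simp [hB]
    · rw [if_pos h, if_neg (not_lt.2 h.le), zero_add, hsymm]
  refine ⟨fun u => C u u, ?_⟩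
  intro u v
  have h := congrFun (congrArg DFunLike.coe (congrFun (congrArg DFunLike.coe hC) u)) v
  rw [LinearMap.add_apply, LinearMap.add_apply, LinearMap.BilinForm.flip_apply] at h
  rw [← h]
  simp only [map_add, LinearMap.add_apply]
  ring

variable (β : LinearMap.BilinForm (ZMod 2) U) [Fintype U] [DecidableEq U]

/-- **Intertwiners exist.** -/
theorem exists_intertwiner (hnd : ∀ u, (∀ v, β u v + β v u = 0) → u = 0)
    (g : U →ₗ[ZMod 2] U) (hg : ∀ u, β (g u) (g u) = β u u) :
    ∃ (T : (U → ZMod 3) ≃ₗ[ZMod 3] (U → ZMod 3)) (f : U → ZMod 2),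
      (∀ v h, T (R β v h) = R β v (T h)) ∧
      (∀ v h, T (L β v h) = sg (f v) • L β (g v) (T h)) := by
  -- the cochain
  have hB0 : ∀ u, (β.comp g g + β) u u = 0 := by
    intro u
    simp only [LinearMap.add_apply, LinearMap.BilinForm.comp_apply, hg]
    exact CharTwo.add_self_eq_zero _
  obtain ⟨f, hf⟩ := exists_cochain (β.comp g g + β) hB0
  simp only [LinearMap.add_apply, LinearMap.BilinForm.comp_apply] at hf
  have hf0 : f 0 = 0 := by
    have h := hf 0 0
    simp only [map_zero, add_zero] at h
    have : ∀ x : ZMod 2, x = x + x → x = 0 := by decide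
    exact this _ h
  -- Φ u = sg (f u) L (g u)
  have hΦ : ∀ u v h, sg (f u) • L β (g u) (sg (f v) • L β (g v) h) =
      sg (β u v) • (sg (f (u + v)) • L β (g (u + v)) h) := by
    intro u v h
    rw [map_smul, L_L, smul_smul, smul_smul, smul_smul, map_add]
    congr 1
    rw [← sg_add, ← sg_add, ← sg_add, hf]
    congr 1
    have h1 := CharTwo.add_self_eq_zero (β u v)
    linear_combination (-1) * h1
  let S : U → (U → ZMod 3) →ₗ[ZMod 3] (U → ZMod 3) := fun w =>
    ∑ u : U, (sg (β u u) * sg (f u)) • (L β (g u) ∘ₗ L β w ∘ₗ L β u)
  have hS : ∀ w h, S w h = ∑ u : U, (sg (β u u) * sg (f u)) • L β (g u) (L β w (L β u h)) := by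
    intro w h
    simp only [S, LinearMap.sum_apply, LinearMap.smul_apply, LinearMap.comp_apply]
  have hSR : ∀ w v h, S w (R β v h) = R β v (S w h) := by
    intro w v h
    rw [hS, hS, map_sum]
    refine Finset.sum_congr rfl fun u _ => ?_
    rw [map_smul, L_R, L_R, L_R]
  have hSL : ∀ w v h, S w (L β v h) = sg (f v) • L β (g v) (S w h) := by
    intro w v h
    have e1 : S w (L β v h) = ∑ u : U, (sg (β (u + v) (u + v)) * sg (f (u + v))) •
        L β (g (u + v)) (L β w (L β (u + v) (L β v h))) := by
      rw [hS]
      exact (Equiv.sum_comp (Equiv.addRight v) (fun u => (sg (β u u) * sg (f u)) •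
        L β (g u) (L β w (L β u (L β v h))))).symm
    rw [e1, hS, map_sum, Finset.smul_sum]
    refine Finset.sum_congr rfl fun u _ => ?_
    have e2 : L β (u + v) (L β v h) = sg (β (u + v) v) • L β u h := by
      rw [L_L, add_add_self]
    have e3 : sg (f v) • L β (g v) ((sg (β u u) * sg (f u)) • L β (g u) (L β w (L β u h))) =
        sg (β u u) • (sg (β v u) • (sg (f (v + u)) • L β (g (v + u)) (L β w (L β u h)))) := by
      rw [← hΦ]
      simp only [map_smul, smul_smul]
      congr 1; ring
    rw [e3, e2]
    simp only [map_smul, smul_smul]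
    rw [add_comm v u]
    congr 1
    have e4 : sg (β (u + v) (u + v)) * sg (f (u + v)) * sg (β (u + v) v) =
        sg (β (u + v) (u + v)) * sg (β (u + v) v) * sg (f (u + v)) := by ring
    have e5 : sg (β u u) * (sg (β v u) * sg (f (u + v))) =
        sg (β u u) * sg (β v u) * sg (f (u + v)) := by ring
    first
      | (rw [e4, e5]; congr 1; rw [← sg_add, ← sg_add]; congr 1
         simp only [map_add, LinearMap.add_apply]
         have h1 := CharTwo.add_self_eq_zero (β u v)
         have h2 := CharTwo.add_self_eq_zero (β v v)
         linear_combination h1 + h2)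
  -- some S w is nonzero
  have hne : ∃ w, S w ≠ 0 := by
    by_contra hcon
    push Not at hcon
    have h1 : ∀ w, S w (dl 0) w = 0 := by
      intro w; rw [hcon w]; rfl
    have h2 : ∀ w, S w (dl 0) w = ∑ u : U, if g u = u then sg (f u) * sg (β w u + β u w) else 0 := by
      intro w
      rw [hS, Finset.sum_apply]
      refine Finset.sum_congr rfl fun u _ => ?_
      rw [L_dl, map_smul, L_dl, map_smul, map_smul, L_dl]
      simp only [Pi.smul_apply, smul_eq_mul, map_zero, sg_zero, add_zero, dl, Pi.single_apply]
      by_cases h : g u = u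
      · have e : w = g u + (w + u) := by
          rw [h]; rw [add_comm w u, ← add_assoc, add_self, zero_add]
        rw [if_pos e, if_pos h, h]
        simp only [map_add, one_mul, mul_one]
        have : sg (β u u) * sg (f u) * (sg (β w u) * sg (β u w + β u u)) =
            sg (f u) * (sg (β u u) * sg (β u u)) * (sg (β w u) * sg (β u w)) := by
          rw [sg_add (β u w) (β u u)]; ring
        rw [this, sg_mul_self, mul_one, ← sg_add]
      · have e : ¬ w = g u + (w + u) := by
          intro e
          apply h
          have : g u + u = 0 := by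
            have e' : w + 0 = w + (g u + u) := by
              rw [add_zero]
              calc w = g u + (w + u) := e
                _ = w + (g u + u) := by abel
            exact (add_left_cancel e').symm
          exact eq_of_add_eq_zero this
        rw [if_neg e, if_neg h]; simp
    have h3 : ∑ w : U, ∑ u : U, (if g u = u then sg (f u) * sg (β w u + β u w) else 0) = 0 := by
      apply Finset.sum_eq_zero
      intro w _
      rw [← h2, h1]
    rw [Finset.sum_comm] at h3
    have h4 : ∀ u : U, ∑ w : U, (if g u = u then sg (f u) * sg (β w u + β u w) else 0) =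
        if u = 0 then (Fintype.card U : ZMod 3) else 0 := by
      intro u
      by_cases h : g u = u
      · simp only [if_pos h]
        rw [← Finset.mul_sum, sum_sg β hnd]
        by_cases hu : u = 0
        · subst hu; simp [hf0, sg_zero]
        · simp [hu]
      · have hu : u ≠ 0 := by rintro rfl; exact h (map_zero g)
        simp [h, hu]
    simp only [h4] at h3
    rw [Finset.sum_ite_eq' Finset.univ (0 : U) (fun _ => (Fintype.card U : ZMod 3))] at h3
    simp only [Finset.mem_univ, if_true] at h3
    exact card_ne_zero (U := U) h3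
  obtain ⟨w, hw⟩ := hne
  -- injectivity
  have hker : LinearMap.ker (S w) = ⊥ := by
    by_contra hk
    apply hw
    rw [← LinearMap.ker_eq_top]
    apply injective_of_invariant β hnd _ _ _ hk
    · intro v h hh
      rw [LinearMap.mem_ker] at hh ⊢
      rw [hSR, hh, map_zero]
    · intro v h hh
      rw [LinearMap.mem_ker] at hh ⊢
      rw [hSL, hh, map_zero, smul_zero]
  refine ⟨LinearEquiv.ofInjectiveEndo (S w) (LinearMap.ker_eq_bot.1 hker), f, ?_, ?_⟩
  · intro v h
    exact hSR w v h
  · intro v h
    exact hSL w v h

end Cfsg.Agent.H281.Tw
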